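import Mathlib

universe u v
open Polynomial

namespace Groth.Agent.BilinAdj

variable {k : Type u} [Field k] {V : Type v} [AddCommGroup V] [Module k V]
  (B : LinearMap.BilinForm k V) (f : Module.End k V)

theorem pow_iso (h : ∀ x y, B (f x) (f y) = B x y) (n : ℕ) (x y : V) :
    B ((f ^ n) x) ((f ^ n) y) = B x y := by
  induction n generalizing x y with
  | zero => simp
  | succ n ih => rw [pow_succ, Module.End.mul_apply, Module.End.mul_apply, ih, h]

theorem adjoint_reflect (h : ∀ x y, B (f x) (f y) = B x y) (P : k[X]) (N : ℕ)
    (hN : P.natDegree ≤ N) (x z : V) :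
    B ((f ^ N) x) (aeval f (reflect N P) z) = B (aeval f P x) z := by
  revert x z
  refine Polynomial.induction_with_natDegree_le
    (fun P => ∀ x z, B ((f ^ N) x) (aeval f (reflect N P) z) = B (aeval f P x) z) N ?_ ?_ ?_ P hN
  · intro x z; simp
  · intro n r _ hn x z
    rw [reflect_C_mul_X_pow, revAt_le hn]
    simp only [map_mul, aeval_C, map_pow, aeval_X, Module.algebraMap_end_apply, Module.End.mul_apply,
      map_smul, LinearMap.smul_apply]
    congr 1
    conv_lhs => rw [show N = (N - n) + n by omega, pow_add, Module.End.mul_apply,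
      show (N - n + n - n) = N - n by omega]
    exact pow_iso B f h _ _ _
  · intro P Q _ _ hP hQ x z
    simp [reflect_add, map_add, hP, hQ]

theorem bijective_pow (hf : Function.Bijective f) (n : ℕ) : Function.Bijective (f ^ n) := by
  rw [Module.End.coe_pow]
  exact hf.iterate n

theorem left_zero (h : ∀ x y, B (f x) (f y) = B x y) (hf : Function.Bijective f)
    (P : k[X]) (x z : V) (hx : aeval f P x = 0) : B x (aeval f P.reverse z) = 0 := by
  obtain ⟨x', rfl⟩ := (bijective_pow f hf P.natDegree).2 x
  rw [Polynomial.reverse, adjoint_reflect B f h P _ le_rfl x' z]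
  have hc : (f ^ P.natDegree) (aeval f P x') = 0 := by
    rw [← hx, ← Module.End.mul_apply, ← Module.End.mul_apply]
    congr 1
    exact (show Commute (f ^ P.natDegree) (aeval f P) from by
      rw [show f ^ P.natDegree = aeval f ((X : k[X]) ^ P.natDegree) by simp]
      exact (Commute.all _ _).map (aeval f))
  have : aeval f P x' = 0 := (bijective_pow f hf P.natDegree).1 (by rw [hc, map_zero])
  rw [this, map_zero, LinearMap.zero_apply]

theorem reverse_pow_eq (Q : k[X]) (n : ℕ) : (Q ^ n).reverse = Q.reverse ^ n := by
  induction n with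
  | zero => rw [pow_zero, pow_zero, ← C_1, reverse_C]
  | succ n ih => rw [pow_succ, pow_succ, reverse_mul_of_domain, ih]

theorem conformal (q a c : k) (hac : a * c = q) (h : ∀ x y, B (f x) (f y) = q * B x y)
    (n : ℕ) (x y : V) :
    B (((f - a • (1 : Module.End k V)) ^ n) x) ((f ^ n) y) =
      (-a) ^ n * B x (((f - c • (1 : Module.End k V)) ^ n) y) := by
  induction n generalizing x y with
  | zero => simp
  | succ n ih =>
    have step : ∀ u w, B ((f - a • (1 : Module.End k V)) u) (f w) =
        -a * B u ((f - c • (1 : Module.End k V)) w) := by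
      intro u w
      simp only [LinearMap.sub_apply, LinearMap.smul_apply, Module.End.one_apply, map_sub, map_smul,
        smul_eq_mul, h]
      subst hac
      ring
    have hcomm : Commute (f - c • (1 : Module.End k V)) (f ^ n) :=
      ((Commute.refl f).sub_left ((Commute.one_left f).smul_left c)).pow_right n
    rw [pow_succ', Module.End.mul_apply, pow_succ' f, Module.End.mul_apply, step,
      ← Module.End.mul_apply _ (f ^ n), hcomm.eq, Module.End.mul_apply, ih,
      pow_succ (f - c • (1 : Module.End k V)), Module.End.mul_apply, pow_succ' (-a), mul_assoc]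

end Groth.Agent.BilinAdj
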